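import Mathlib.AlgebraicTopology.SimplicialObject.Coskeletal
import Mathlib.AlgebraicTopology.SimplicialSet.Homotopy
import Mathlib.AlgebraicTopology.SimplicialSet.Boundary
import Mathlib.AlgebraicTopology.SimplicialSet.CategoryWithFibrations

/-!
Maps into coskeletal simplicial sets are determined by their components in low degree.
-/

universe u

open CategoryTheory Simplicial Opposite MonoidalCategory CartesianMonoidalCategory

namespace Groth.Agent.SSetH7

variable {X Y Z : SSet.{u}} {n : ℕ}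

theorem hom_ext_cosk [SimplicialObject.IsCoskeletal X n] {g h : Z ⟶ X}
    (e : ∀ i : ℕ, i ≤ n → g.app (op ⦋i⦌) = h.app (op ⦋i⦌)) : g = h := by
  refine Functor.hom_ext_of_isRightKanExtension X (𝟙 ((SimplexCategory.Truncated.inclusion n).op ⋙ X)) g h ?_
  refine NatTrans.ext (funext fun d => ?_)
  obtain ⟨⟨⟨i⟩, hi⟩⟩ := d
  simp only [NatTrans.comp_app, Functor.whiskerLeft_app, NatTrans.id_app, Category.comp_id]
  exact e i hi

theorem exists_hom_cosk [SimplicialObject.IsCoskeletal X n] (t : ∀ i : ℕ, i ≤ n → Z _⦋i⦌ → X _⦋i⦌)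
    (ht : ∀ (i j : ℕ) (hi : i ≤ n) (hj : j ≤ n) (α : ⦋i⦌ ⟶ ⦋j⦌) (z : Z _⦋j⦌),
      t i hi (Z.map α.op z) = X.map α.op (t j hj z)) :
    ∃ g : Z ⟶ X, ∀ (i : ℕ) (hi : i ≤ n) (z : Z _⦋i⦌), g.app (op ⦋i⦌) z = t i hi z := by
  let τ : (SimplexCategory.Truncated.inclusion n).op ⋙ Z ⟶ (SimplexCategory.Truncated.inclusion n).op ⋙ X :=
    { app := fun d => ↾(t d.unop.obj.len d.unop.property)
      naturality := fun d e φ => by
        ext z
        exact ht e.unop.obj.len d.unop.obj.len e.unop.property d.unop.property φ.unop.hom z }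
  refine ⟨Functor.liftOfIsRightKanExtension X (𝟙 ((SimplexCategory.Truncated.inclusion n).op ⋙ X)) Z τ,
    fun i hi z => ?_⟩
  have h := Functor.liftOfIsRightKanExtension_fac_app X (𝟙 ((SimplexCategory.Truncated.inclusion n).op ⋙ X)) Z τ
    (op ⟨⦋i⦌, hi⟩)
  simp only [NatTrans.id_app, Category.comp_id] at h
  exact ConcreteCategory.congr_hom h z

theorem map_eq_of_not_surjective {f g : Z ⟶ X} {j : ℕ}
    (h : ∀ i : ℕ, i < j → f.app (op ⦋i⦌) = g.app (op ⦋i⦌)) {i : ℕ} (α : ⦋i⦌ ⟶ ⦋j⦌)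
    (hα : ¬ Function.Surjective α.toOrderHom) (z : Z _⦋j⦌) :
    f.app (op ⦋i⦌) (Z.map α.op z) = g.app (op ⦋i⦌) (Z.map α.op z) := by
  obtain _ | k := j
  · exact (hα fun y => ⟨0, Subsingleton.elim (α := Fin 1) _ _⟩).elim
  · obtain ⟨a, q, rfl⟩ := SimplexCategory.eq_comp_δ_of_not_surjective α hα
    rw [op_comp, Functor.map_comp_apply, NatTrans.naturality_apply f, NatTrans.naturality_apply g,
      h k (Nat.lt_succ_self k)]

theorem nonempty_homotopy {U V : SSet.{u}} (f₀ f₁ : V ⟶ U) (n : ℕ)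
    (h : ∀ i : ℕ, i < n → f₀.app (op ⦋i⦌) = f₁.app (op ⦋i⦌)) [SimplicialObject.IsCoskeletal U n] :
    Nonempty (SSet.Homotopy f₀ f₁) := by
  classical
  let t : ∀ i : ℕ, i ≤ n → (V ⊗ Δ[1]) _⦋i⦌ → U _⦋i⦌ := fun i _ p =>
    if ∀ k : Fin (i + 1), (p.2 : Δ[1] _⦋i⦌) k = 1 then f₁.app (op ⦋i⦌) p.1 else f₀.app (op ⦋i⦌) p.1
  have ht : ∀ (i j : ℕ) (hi : i ≤ n) (hj : j ≤ n) (α : ⦋i⦌ ⟶ ⦋j⦌) (z : (V ⊗ Δ[1]) _⦋j⦌),
      t i hi ((V ⊗ Δ[1]).map α.op z) = U.map α.op (t j hj z) := by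
    intro i j hi hj α z
    have hL : t i hi ((V ⊗ Δ[1]).map α.op z) = if ∀ k : Fin (i + 1), (z.2 : Δ[1] _⦋j⦌) (α.toOrderHom k) = 1
        then f₁.app (op ⦋i⦌) (V.map α.op z.1) else f₀.app (op ⦋i⦌) (V.map α.op z.1) := rfl
    rw [hL]
    simp only [t, apply_ite (fun w => U.map α.op w), ← NatTrans.naturality_apply]
    by_cases hs : Function.Surjective α.toOrderHom
    · exact if_congr (Function.Surjective.forall (p := fun k => (z.2 : Δ[1] _⦋j⦌) k = 1) hs).symm rfl rfl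
    · rw [map_eq_of_not_surjective (fun l hl => h l (by omega)) α hs z.1]
      split_ifs <;> rfl
  obtain ⟨g, hg⟩ := exists_hom_cosk t ht
  refine ⟨{ h := g, h₀ := ?_, h₁ := ?_, rel := ?_ }⟩
  · refine hom_ext_cosk (n := n) fun i hi => ?_
    ext v
    show g.app (op ⦋i⦌) (SSet.ι₀.app (op ⦋i⦌) v) = f₀.app (op ⦋i⦌) v
    rw [hg i hi]
    exact if_neg fun hc => absurd (hc 0) (by simp)
  · refine hom_ext_cosk (n := n) fun i hi => ?_
    ext v
    show g.app (op ⦋i⦌) (SSet.ι₁.app (op ⦋i⦌) v) = f₁.app (op ⦋i⦌) v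
    rw [hg i hi]
    exact if_pos fun k => rfl
  · ext m p
    exact p.1.2.elim

theorem rlp_I {U V : SSet.{u}} (f : V ⟶ U) (n : ℕ)
    (h1 : ∀ i : ℕ, i < n → Function.Bijective (f.app (op ⦋i⦌))) (h2 : Function.Surjective (f.app (op ⦋n⦌)))
    [SimplicialObject.IsCoskeletal U n] [SimplicialObject.IsCoskeletal V n] :
    SSet.modelCategoryQuillen.I.rlp f := by
  rintro _ _ _ ⟨m⟩
  constructor
  intro a b sq
  have hsq : ∀ i (z : (∂Δ[m] : SSet.{u}) _⦋i⦌), f.app (op ⦋i⦌) (a.app (op ⦋i⦌) z) = b.app (op ⦋i⦌) z.1 := fun i z =>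
    ConcreteCategory.congr_hom (NatTrans.congr_app sq.w (op ⦋i⦌)) z
  by_cases hm : m ≤ n
  · have hsurj : Function.Surjective (f.app (op ⦋m⦌)) := by
      rcases hm.lt_or_eq with hlt | rfl
      · exact (h1 m hlt).surjective
      · exact h2
    obtain ⟨v, hv⟩ := hsurj (SSet.yonedaEquiv b)
    refine CommSq.HasLift.mk' ⟨SSet.yonedaEquiv.symm v, ?_, ?_⟩
    · refine hom_ext_cosk (n := n) fun i hi => ?_
      ext ⟨s, hs⟩
      show (SSet.yonedaEquiv.symm v).app (op ⦋i⦌) s = a.app (op ⦋i⦌) ⟨s, hs⟩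
      obtain ⟨α, rfl⟩ := SSet.stdSimplex.objEquiv.symm.surjective s
      have hα : ¬ Function.Surjective α.toOrderHom := hs
      rw [SSet.yonedaEquiv_symm_app_objEquiv_symm]
      obtain _ | k := m
      · exact (hα fun y => ⟨0, Subsingleton.elim (α := Fin 1) _ _⟩).elim
      · obtain ⟨c, q, rfl⟩ := SimplexCategory.eq_comp_δ_of_not_surjective α hα
        have hd : SSet.stdSimplex.objEquiv.symm (SimplexCategory.δ c) ∈ (SSet.boundary.{u} (k + 1)).obj (op ⦋k⦌) := by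
          rw [SSet.boundary_obj_eq_univ k (k + 1)]; trivial
        have key : V.map (SimplexCategory.δ c).op v =
            a.app (op ⦋k⦌) ⟨SSet.stdSimplex.objEquiv.symm (SimplexCategory.δ c), hd⟩ := by
          refine (h1 k (by omega)).injective ?_
          rw [hsq, NatTrans.naturality_apply f, hv]
          exact (SSet.yonedaEquiv_symm_app_objEquiv_symm (SSet.yonedaEquiv b) _).symm.trans
            (by rw [Equiv.symm_apply_apply])
        rw [op_comp, Functor.map_comp_apply]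
        exact (congrArg (V.map q.op) key).trans (NatTrans.naturality_apply a q.op _).symm
    · refine SSet.yonedaEquiv.injective ?_
      rw [SSet.yonedaEquiv_comp, Equiv.apply_symm_apply, hv]
  · have htop : ∀ i, i ≤ n → ∀ z : Δ[m] _⦋i⦌, z ∈ (SSet.boundary.{u} m).obj (op ⦋i⦌) := fun i hi z => by
      rw [SSet.boundary_obj_eq_univ i m (by omega)]; trivial
    obtain ⟨l, hl⟩ := exists_hom_cosk (X := V) (fun i hi z => a.app (op ⦋i⦌) ⟨z, htop i hi z⟩)
      fun i j hi hj α z => by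
        rw [← NatTrans.naturality_apply]
        rfl
    refine CommSq.HasLift.mk' ⟨l, hom_ext_cosk (n := n) fun i hi => ?_, hom_ext_cosk (n := n) fun i hi => ?_⟩
    · ext z
      exact hl i hi z.1
    · ext z
      show f.app (op ⦋i⦌) (l.app (op ⦋i⦌) z) = b.app (op ⦋i⦌) z
      rw [hl i hi, hsq]

end Groth.Agent.SSetH7
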